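import Cfsg.Agent.SporB.Suz.Rep.Check
import Cfsg.Agent.SporB.Suz.G.Cert
import Cfsg.Agent.SporB.Suz.H.Cert
import Cfsg.Agent.SporB.Suz.J2.Cert
import Cfsg.Agent.SporB.Suz.B.Cert
import Cfsg.Agent.SporB.Suz.Cd.Cert

set_option autoImplicit false
set_option maxRecDepth 100000

namespace Cfsg.Agent.CosetEnum.Suz

/-- The table as a representation of the presented group. -/
theorem rep : pres.Rep Rep.tbl where
  ok := ⟨by decide, fun i hi => Rep.rels_eq ▸ Rep.point i hi⟩
  nl := rfl
  invs := Rep.invs_ok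

theorem nodup : pres.gens.Nodup := by decide

theorem top_eq : pres.sub G.sel = ⊤ := pres.sub_all _ rfl

theorem bound_G : (pres.sub H.sel).relIndex (pres.sub G.sel) ≠ 0 ∧
    (pres.sub H.sel).relIndex (pres.sub G.sel) ≤ 1782 :=
  pres.relIndex_le G.cert rfl G.inv_ok (rels := G.rels) (by decide +kernel) G.rules_ok
    (pres.subs_mem G.sel H.sel (by decide +kernel))

theorem bound_H : (pres.sub J2.sel).relIndex (pres.sub H.sel) ≠ 0 ∧
    (pres.sub J2.sel).relIndex (pres.sub H.sel) ≤ 416 :=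
  pres.relIndex_le H.cert rfl H.inv_ok (rels := H.rels) (by decide +kernel) H.rules_ok
    (pres.subs_mem H.sel J2.sel (by decide +kernel))

theorem bound_J2 : (pres.sub B.sel).relIndex (pres.sub J2.sel) ≠ 0 ∧
    (pres.sub B.sel).relIndex (pres.sub J2.sel) ≤ 280 :=
  pres.relIndex_le J2.cert rfl J2.inv_ok (rels := J2.rels) (by decide +kernel) J2.rules_ok
    (pres.subs_mem J2.sel B.sel (by decide +kernel))

theorem bound_B : (pres.sub Cd.sel).relIndex (pres.sub B.sel) ≠ 0 ∧
    (pres.sub Cd.sel).relIndex (pres.sub B.sel) ≤ 135 :=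
  pres.relIndex_le B.cert rfl B.inv_ok (rels := B.rels) (by decide +kernel) B.rules_ok
    (pres.subs_mem B.sel Cd.sel (by decide +kernel))

theorem bound_Cd : (⊥ : Subgroup pres.Gp).relIndex (pres.sub Cd.sel) ≠ 0 ∧
    (⊥ : Subgroup pres.Gp).relIndex (pres.sub Cd.sel) ≤ 16 :=
  pres.relIndex_le Cd.cert rfl Cd.inv_ok (rels := Cd.rels) (by decide +kernel) Cd.rules_ok
    (fun W hW => absurd hW (List.not_mem_nil (a := W)))

theorem card_chain : Nat.card pres.Gp =
    (⊥ : Subgroup pres.Gp).relIndex (pres.sub Cd.sel) *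
    (pres.sub Cd.sel).relIndex (pres.sub B.sel) *
    (pres.sub B.sel).relIndex (pres.sub J2.sel) *
    (pres.sub J2.sel).relIndex (pres.sub H.sel) *
    (pres.sub H.sel).relIndex (pres.sub G.sel) := by
  have h1 : pres.sub Cd.sel ≤ pres.sub B.sel := pres.sub_mono (by decide)
  have h2 : pres.sub B.sel ≤ pres.sub J2.sel := pres.sub_mono (by decide)
  have h3 : pres.sub J2.sel ≤ pres.sub H.sel := pres.sub_mono (by decide)
  have h4 : pres.sub H.sel ≤ pres.sub G.sel := pres.sub_mono (by decide)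
  rw [Subgroup.relIndex_mul_relIndex _ _ _ bot_le h1,
    Subgroup.relIndex_mul_relIndex _ _ _ bot_le h2,
    Subgroup.relIndex_mul_relIndex _ _ _ bot_le h3,
    Subgroup.relIndex_mul_relIndex _ _ _ bot_le h4,
    Subgroup.relIndex_bot_left, top_eq, Subgroup.card_top]

theorem card_le : Nat.card pres.Gp ≠ 0 ∧ Nat.card pres.Gp ≤ 448345497600 := by
  rw [card_chain]
  refine ⟨?_, ?_⟩
  · simp only [Nat.mul_ne_zero_iff]
    exact ⟨⟨⟨⟨bound_Cd.1, bound_B.1⟩, bound_J2.1⟩, bound_H.1⟩, bound_G.1⟩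
  · calc _ ≤ 16 * 135 * 280 * 416 * 1782 := Nat.mul_le_mul (Nat.mul_le_mul (Nat.mul_le_mul
          (Nat.mul_le_mul bound_Cd.2 bound_B.2) bound_J2.2) bound_H.2) bound_G.2
      _ = _ := by norm_num

theorem finite : Finite pres.Gp := Nat.finite_of_card_ne_zero card_le.1

theorem le_stab : pres.sub H.sel ≤ rep.stab nodup :=
  pres.le_stab rep nodup _ (by decide +kernel)

theorem stab_eq : pres.sub H.sel = rep.stab nodup ∧ (pres.sub H.sel).index = 1782 := by
  have h := bound_G
  rw [top_eq, Subgroup.relIndex_top_right] at h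
  exact rep.eq_stab nodup Rep.descend le_stab h.1 h.2

theorem stab_closure : rep.stab nodup =
    Subgroup.closure {g | ∃ W ∈ Rep.ws, evalWord pres.val W = g} := by
  rw [← stab_eq.1, pres.sub_words]
  rfl

theorem card_eq : Nat.card pres.Gp = 448345497600 ∧ Function.Injective (rep.hom nodup) :=
  haveI := finite
  rep.card_eq nodup Rep.slp_ok Rep.levels_ok Rep.levels_prod card_le.2

theorem subdegrees : (∃ q : pres.Gp ⧸ rep.stab nodup,
      (MulAction.orbit (rep.stab nodup) q).ncard = 416) ∧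
    ∃ q : pres.Gp ⧸ rep.stab nodup, (MulAction.orbit (rep.stab nodup) q).ncard = 1365 := by
  constructor
  · obtain ⟨q, -, -, h⟩ := rep.exists_orbit nodup Rep.descend Rep.ws Rep.ws_ok stab_closure Rep.orb
      2 (Rep.roots.getD 2 0) (by decide +kernel) (by decide +kernel)
      (fun i hi => allRange_spec (Rep.orbit i hi) 2 (by omega) (by omega))
    exact ⟨q, h.trans Rep.size2⟩
  · obtain ⟨q, -, -, h⟩ := rep.exists_orbit nodup Rep.descend Rep.ws Rep.ws_ok stab_closure Rep.orb
      1 (Rep.roots.getD 1 0) (by decide +kernel) (by decide +kernel)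
      (fun i hi => allRange_spec (Rep.orbit i hi) 1 (by omega) (by omega))
    exact ⟨q, h.trans Rep.size1⟩

theorem stab_card : Nat.card (rep.stab nodup) = 251596800 := by
  have h := Subgroup.card_mul_index (rep.stab nodup)
  rw [rep.index_stab nodup Rep.descend, card_eq.1] at h
  exact Nat.eq_of_mul_eq_mul_right (by decide : 0 < 1782) (h.trans (by norm_num))

theorem div_ok : ∀ A : Finset ℕ, A ⊆ Finset.range Rep.roots.length → 0 ∈ A →
    (∑ c ∈ A, countBelow (fun i => Nat.beq (Rep.orb.getLab i) c) Rep.tbl.n) ∣ Rep.tbl.n →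
    A = {0} ∨ A = Finset.range Rep.roots.length := by
  intro A hA h0
  have hA' : A ∈ (Finset.range 3).powerset := Finset.mem_powerset.mpr hA
  have e : ∀ c ∈ A, countBelow (fun i => Nat.beq (Rep.orb.getLab i) c) Rep.tbl.n =
      [1, 1365, 416].getD c 0 := by
    intro c hc
    have : c < 3 := Finset.mem_range.mp (hA hc)
    interval_cases c
    exacts [Rep.size0, Rep.size1, Rep.size2]
  rw [Finset.sum_congr rfl e]
  revert h0
  revert A
  decide +kernel

theorem maximal (K : Subgroup pres.Gp) (hK : rep.stab nodup ≤ K) : K = rep.stab nodup ∨ K = ⊤ :=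
  rep.stab_maximal nodup Rep.descend Rep.ws_ok stab_closure Rep.orb Rep.roots (by decide)
    Rep.lab_ok Rep.roots_ok Rep.orbit div_ok Rep.size0 hK

theorem simple : IsSimpleGroup pres.Gp :=
  haveI := finite
  rep.isSimple nodup Rep.descend (by decide) card_eq.2 maximal Rep.slp_ok 11 251596800 stab_card
    (by decide +kernel) Rep.ys Rep.steps Rep.ys_ok (Rep.rels_eq ▸ Rep.steps_ok) Rep.chk_ok

end Cfsg.Agent.CosetEnum.Suz
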