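import Cfsg.Agent.SporB.Suz.Main

set_option autoImplicit false
set_option maxRecDepth 100000

namespace Cfsg.Agent.CosetEnum.Suz

theorem H_eq : (Subgroup.closure ({Cfsg.Spor.Suz.a, Cfsg.Spor.Suz.b, Cfsg.Spor.Suz.c, Cfsg.Spor.Suz.d, Cfsg.Spor.Suz.e, Cfsg.Spor.Suz.f} : Set (FreeGroup Cfsg.Spor.Suz.Gen))).map
      (PresentedGroup.mk (Cfsg.Spor.coxRelators Cfsg.Spor.Suz.edges ∪ {r | r ∈ Cfsg.Spor.Suz.extra})) =
    pres.sub H.sel := by
  rw [MonoidHom.map_closure, pres.sub_eq_closure]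
  simp only [Set.image_insert_eq, Set.image_singleton]
  apply congrArg Subgroup.closure
  ext g
  simp [H.sel, InvPres.val, letterVal, pres, genList, PresentedGroup.of]
  erw [List.mem_cons, List.mem_cons, List.mem_cons, List.mem_cons, List.mem_cons, List.mem_singleton]

end Cfsg.Agent.CosetEnum.Suz
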