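import Cfsg.Agent.SporB.Suz.Main
import Cfsg.Agent.SporB.Suz.K22.Cert
import Cfsg.Agent.SporB.Suz.F22.Cert
import Cfsg.Agent.SporB.Suz.Sub22.Check
import Cfsg.Agent.Lib.CosetEnum.SubOrder

/-!
The subgroup `⟨a, b, c, d, f, g⟩` of `Suz` has index 22880.
-/

set_option autoImplicit false
set_option maxRecDepth 100000

namespace Cfsg.Agent.CosetEnum.Suz

theorem bound_K22 : (pres.sub F22.sel).relIndex (pres.sub K22.sel) ≠ 0 ∧
    (pres.sub F22.sel).relIndex (pres.sub K22.sel) ≤ 162 :=
  pres.relIndex_le K22.cert rfl K22.inv_ok (rels := K22.rels) (by decide +kernel) K22.rules_ok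
    (pres.subs_mem K22.sel F22.sel (by decide +kernel))

theorem bound_F22 : (pres.sub B.sel).relIndex (pres.sub F22.sel) ≠ 0 ∧
    (pres.sub B.sel).relIndex (pres.sub F22.sel) ≤ 56 :=
  pres.relIndex_le F22.cert rfl F22.inv_ok (rels := F22.rels) (by decide +kernel) F22.rules_ok
    (pres.subs_mem F22.sel B.sel (by decide +kernel))

theorem index_K22 : (pres.sub K22.sel).index = 22880 := by
  haveI := finite
  have h1 : pres.sub Cd.sel ≤ pres.sub B.sel := pres.sub_mono (by decide)
  have h2 : pres.sub B.sel ≤ pres.sub F22.sel := pres.sub_mono (by decide)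
  have h3 : pres.sub F22.sel ≤ pres.sub K22.sel := pres.sub_mono (by decide)
  have hup : Nat.card (pres.sub K22.sel) ≤ 19595520 := by
    rw [show Nat.card (pres.sub K22.sel) = (⊥ : Subgroup pres.Gp).relIndex (pres.sub Cd.sel) *
      (pres.sub Cd.sel).relIndex (pres.sub B.sel) * (pres.sub B.sel).relIndex (pres.sub F22.sel) *
      (pres.sub F22.sel).relIndex (pres.sub K22.sel) by
      rw [Subgroup.relIndex_mul_relIndex _ _ _ bot_le h1, Subgroup.relIndex_mul_relIndex _ _ _ bot_le h2,
        Subgroup.relIndex_mul_relIndex _ _ _ bot_le h3, Subgroup.relIndex_bot_left]]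
    calc _ ≤ 16 * 135 * 56 * 162 := Nat.mul_le_mul (Nat.mul_le_mul
          (Nat.mul_le_mul bound_Cd.2 bound_B.2) bound_F22.2) bound_K22.2
      _ = _ := by norm_num
  have hlo : 19595520 ≤ Nat.card (pres.sub K22.sel) := by
    rw [← Sub22.levels_prod]
    refine rep.sub_card_ge nodup Sub22.slp_ok (sel := K22.sel) (by decide +kernel) Sub22.levels_ok
      (by decide +kernel) fun l hl => ?_
    rw [pres.sub_eq_closure]
    exact Subgroup.subset_closure (List.mem_map_of_mem hl)
  have h := Subgroup.card_mul_index (pres.sub K22.sel)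
  rw [card_eq.1, le_antisymm hup hlo] at h
  exact Nat.eq_of_mul_eq_mul_left (by norm_num : 0 < 19595520) (h.trans (by norm_num))

theorem K22_eq : (Subgroup.closure ({Cfsg.Spor.Suz.a, Cfsg.Spor.Suz.b, Cfsg.Spor.Suz.c, Cfsg.Spor.Suz.d, Cfsg.Spor.Suz.f, Cfsg.Spor.Suz.g} : Set (FreeGroup Cfsg.Spor.Suz.Gen))).map
      (PresentedGroup.mk (Cfsg.Spor.coxRelators Cfsg.Spor.Suz.edges ∪ {r | r ∈ Cfsg.Spor.Suz.extra})) =
    pres.sub K22.sel := by
  rw [MonoidHom.map_closure, pres.sub_eq_closure]
  simp only [Set.image_insert_eq, Set.image_singleton]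
  apply congrArg Subgroup.closure
  ext g
  simp [K22.sel, InvPres.val, letterVal, pres, genList, PresentedGroup.of]
  erw [List.mem_cons, List.mem_cons, List.mem_cons, List.mem_cons, List.mem_cons, List.mem_singleton]

end Cfsg.Agent.CosetEnum.Suz
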